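import Mathlib
import Groth.Agent.GrBasics.Core

/-! The graded ring `S^♮ = ⊕ S_{≥ n}`. -/

set_option autoImplicit false
set_option linter.unusedSectionVars false
open DirectSum Polynomial

namespace GrNatural

universe u

variable {R A B : Type u} [CommRing R] [CommRing A] [Algebra R A]
    (𝒜 : ℕ → Submodule R A) [GradedAlgebra 𝒜] [CommRing B] [Algebra R B] (ℬ : ℕ → Submodule R B)
    [GradedAlgebra ℬ]

/-- The part of degree at least `n`. -/
def tail (n : ℕ) : Submodule R A := ⨆ (m : ℕ) (_ : n ≤ m), 𝒜 m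

theorem le_tail {n m : ℕ} (h : n ≤ m) : 𝒜 m ≤ tail 𝒜 n :=
  le_iSup₂ (f := fun m (_ : n ≤ m) => 𝒜 m) m h

theorem tail_zero : tail 𝒜 0 = ⊤ := by
  classical
  rw [eq_top_iff]
  intro a _
  rw [← DirectSum.sum_support_decompose 𝒜 a]
  exact sum_mem fun i _ => le_tail 𝒜 (Nat.zero_le i) (decompose 𝒜 a i).2

theorem decompose_tail {n m : ℕ} (hm : m < n) {a : A} (ha : a ∈ tail 𝒜 n) :
    (decompose 𝒜 a m : A) = 0 := by
  classical
  induction ha using Submodule.iSup_induction' with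
  | mem i x hx =>
    by_cases hni : n ≤ i
    · rw [iSup_pos hni] at hx
      exact decompose_of_mem_ne 𝒜 hx (by omega)
    · rw [iSup_neg hni, Submodule.mem_bot] at hx
      simp [hx]
  | zero => simp
  | add x y _ _ hx hy => simp [hx, hy]

variable (φ : B →ₐ[R] Polynomial A) (hφ : Function.Injective φ)
    (hdeg : ∀ n : ℕ, Submodule.map φ.toLinearMap (ℬ n) =
      Submodule.map ((Polynomial.monomial n : A →ₗ[A] Polynomial A).restrictScalars R) (⨆ (m : ℕ) (_ : n ≤ m), 𝒜 m))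

/-- Forgetting the auxiliary variable. -/
noncomputable def ψ : B →+* A := (evalRingHom (1 : A)).comp φ.toRingHom

include hdeg in
theorem exists_eq {n : ℕ} {b : B} (hb : b ∈ ℬ n) : ∃ a ∈ tail 𝒜 n, φ b = monomial n a := by
  have h : φ b ∈ Submodule.map ((Polynomial.monomial n : A →ₗ[A] Polynomial A).restrictScalars R)
      (tail 𝒜 n) := by
    rw [tail, ← hdeg]
    exact Submodule.mem_map_of_mem hb
  obtain ⟨a, ha, e⟩ := h
  exact ⟨a, ha, e.symm⟩

include hdeg in
theorem exists_preimage {n : ℕ} {a : A} (ha : a ∈ tail 𝒜 n) : ∃ b ∈ ℬ n, φ b = monomial n a := by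
  have h : monomial n a ∈ Submodule.map φ.toLinearMap (ℬ n) := by
    rw [hdeg]
    exact ⟨a, ha, rfl⟩
  obtain ⟨b, hb, e⟩ := h
  exact ⟨b, hb, e⟩

include hdeg in
theorem φ_eq_monomial_ψ {n : ℕ} {b : B} (hb : b ∈ ℬ n) :
    φ b = monomial n (ψ φ b) ∧ ψ φ b ∈ tail 𝒜 n := by
  obtain ⟨a, ha, e⟩ := exists_eq 𝒜 ℬ φ hdeg hb
  have h1 : ψ φ b = a := by simp [ψ, e]
  exact h1.symm ▸ ⟨e, ha⟩

include hdeg in
theorem finiteType_of [h : Algebra.FiniteType (ℬ 0) B] : Algebra.FiniteType (𝒜 0) A := by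
  classical
  obtain ⟨s, hs, hsp⟩ := Groth.Agent.GrBasics.exists_finset_span_eq_irrelevant ℬ
    (Groth.Agent.GrBasics.irrelevant_fg_of_finiteType ℬ)
  let g : Finset A := s.biUnion fun e =>
    (((decompose 𝒜 (ψ φ e)).support.filter (0 < ·)).image fun i => (decompose 𝒜 (ψ φ e) i : A))
  refine ⟨⟨g, Groth.Agent.GrBasics.adjoin_eq_top_of_irrelevant_le_span 𝒜 ?_ ?_⟩⟩
  · intro x hx
    simp only [g, Finset.coe_biUnion, Set.mem_iUnion, Finset.coe_image, Set.mem_image,
      Finset.mem_coe, Finset.mem_filter] at hx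
    obtain ⟨e, -, i, ⟨-, hi⟩, rfl⟩ := hx
    exact ⟨i, hi, (decompose 𝒜 _ i).2⟩
  · rw [HomogeneousIdeal.irrelevant_eq_span, Ideal.span_le]
    intro a ha
    obtain ⟨m, hm, ham⟩ := Set.mem_iUnion₂.1 ha
    obtain ⟨b, hb, e⟩ := exists_preimage 𝒜 ℬ φ hdeg (le_tail 𝒜 le_rfl ham)
    have hbs : b ∈ Ideal.span (s : Set B) := hsp ▸ HomogeneousIdeal.mem_irrelevant_of_mem ℬ hm hb
    have hab : a = ψ φ b := by simp [ψ, e]
    rw [SetLike.mem_coe, hab]
    have h2 := Ideal.mem_map_of_mem (ψ φ) hbs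
    rw [Ideal.map_span] at h2
    refine Ideal.span_le.2 ?_ h2
    rintro _ ⟨x, hx, rfl⟩
    obtain ⟨d, hd, hxd⟩ := hs x hx
    have htail := (φ_eq_monomial_ψ 𝒜 ℬ φ hdeg hxd).2
    rw [SetLike.mem_coe, ← DirectSum.sum_support_decompose 𝒜 (ψ φ x)]
    refine sum_mem fun i hi => ?_
    by_cases hi0 : 0 < i
    · refine Ideal.subset_span ?_
      simp only [g, Finset.coe_biUnion, Set.mem_iUnion, Finset.coe_image, Set.mem_image,
        Finset.mem_coe, Finset.mem_filter]
      exact ⟨x, hx, i, ⟨hi, hi0⟩, rfl⟩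
    · rw [decompose_tail 𝒜 (n := d) (by omega) htail]
      exact zero_mem _

include hdeg hφ in
theorem finiteType_natural [h : Algebra.FiniteType (𝒜 0) A] : Algebra.FiniteType (ℬ 0) B := by
  classical
  obtain ⟨s, hs, hdegs⟩ := GradedAlgebra.exists_finset_adjoin_eq_top_and_homogeneous_ne_zero 𝒜
  choose! d hd hd' using hdegs
  have hpre : ∀ (a : A) (j : ℕ), ∃ b : B, a ∈ tail 𝒜 j → b ∈ ℬ j ∧ φ b = monomial j a := fun a j => by
    by_cases ha : a ∈ tail 𝒜 j
    · obtain ⟨b, hb, e⟩ := exists_preimage 𝒜 ℬ φ hdeg ha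
      exact ⟨b, fun _ => ⟨hb, e⟩⟩
    · exact ⟨0, fun h => absurd h ha⟩
  choose β hβ using hpre
  let G : Finset B := s.biUnion fun a => (Finset.range (d a + 1)).image fun j => β a j
  let C' := Algebra.adjoin (ℬ 0) (G : Set B)
  let Ok : A → Prop := fun x => ∀ n m, n ≤ m → ∃ b ∈ C', φ b = monomial n (decompose 𝒜 x m : A)
  have hC : ∀ r : A, ∃ b ∈ C', φ b = Polynomial.C r := fun r => by
    obtain ⟨b, hb, e⟩ := exists_preimage 𝒜 ℬ φ hdeg (n := 0) (a := r) (by rw [tail_zero]; trivial)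
    exact ⟨b, Subalgebra.algebraMap_mem C' ⟨b, hb⟩, by rw [e, monomial_zero_left]⟩
  have key : ∀ x : A, Ok x := by
    intro x
    have hx : x ∈ Subalgebra.toSubmodule (Algebra.adjoin (𝒜 0) (s : Set A)) := by rw [hs]; trivial
    rw [Algebra.adjoin_eq_span] at hx
    induction hx using Submodule.span_induction with
    | mem x hx =>
      suffices ∃ m, x ∈ 𝒜 m ∧ ∀ n ≤ m, ∃ b ∈ C', φ b = monomial n x by
        obtain ⟨m, hxm, hb⟩ := this
        intro n m' hnm
        by_cases hmm : m = m'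
        · subst hmm
          rw [decompose_of_mem_same 𝒜 hxm]
          exact hb n hnm
        · rw [decompose_of_mem_ne 𝒜 hxm hmm]
          exact ⟨0, zero_mem _, by simp⟩
      induction hx using Submonoid.closure_induction with
      | mem x hx =>
        refine ⟨d x, hd' x hx, fun n hn => ⟨β x n, Algebra.subset_adjoin ?_,
          (hβ x n (le_tail 𝒜 hn (hd' x hx))).2⟩⟩
        simp only [G, Finset.coe_biUnion, Set.mem_iUnion, Finset.coe_image, Set.mem_image,
          Finset.mem_coe, Finset.mem_range]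
        exact ⟨x, hx, n, by omega, rfl⟩
      | one =>
        refine ⟨0, SetLike.one_mem_graded 𝒜, fun n hn => ⟨1, one_mem _, ?_⟩⟩
        rw [Nat.le_zero.1 hn, map_one, monomial_zero_left, map_one]
      | mul x y _ _ hx hy =>
        obtain ⟨m₁, hx, hx'⟩ := hx
        obtain ⟨m₂, hy, hy'⟩ := hy
        refine ⟨m₁ + m₂, SetLike.mul_mem_graded hx hy, fun n hn => ?_⟩
        obtain ⟨b₁, hb₁, e₁⟩ := hx' (min n m₁) (min_le_right _ _)
        obtain ⟨b₂, hb₂, e₂⟩ := hy' (n - min n m₁) (by omega)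
        refine ⟨b₁ * b₂, mul_mem hb₁ hb₂, ?_⟩
        rw [map_mul, e₁, e₂, monomial_mul_monomial]
        congr 2
        omega
    | zero => intro n m _; exact ⟨0, zero_mem _, by simp⟩
    | add x y _ _ hx hy =>
      intro n m hnm
      obtain ⟨b₁, hb₁, e₁⟩ := hx n m hnm
      obtain ⟨b₂, hb₂, e₂⟩ := hy n m hnm
      exact ⟨b₁ + b₂, add_mem hb₁ hb₂, by simp [e₁, e₂]⟩
    | smul r x _ hx =>
      intro n m hnm
      obtain ⟨c, hc, ec⟩ := hC (r : A)
      obtain ⟨b, hb, e⟩ := hx n m hnm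
      refine ⟨c * b, mul_mem hc hb, ?_⟩
      have : (decompose 𝒜 (r • x) m : A) = (r : A) * decompose 𝒜 x m := by
        rw [show r • x = (r : A) * x from rfl, coe_decompose_mul_of_left_mem 𝒜 m r.2, if_pos (Nat.zero_le m),
          Nat.sub_zero]
      rw [map_mul, ec, e, this, C_mul_monomial]
  refine ⟨⟨G, ?_⟩⟩
  rw [eq_top_iff]
  intro b _
  suffices hn : ∀ n, ∀ b ∈ ℬ n, b ∈ C' by
    rw [← DirectSum.sum_support_decompose ℬ b]
    exact sum_mem fun i _ => hn i _ (decompose ℬ b i).2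
  intro n b hb
  obtain ⟨a, ha, e⟩ := exists_eq 𝒜 ℬ φ hdeg hb
  rw [← DirectSum.sum_support_decompose 𝒜 a, map_sum] at e
  have hb' : ∀ i ∈ (decompose 𝒜 a).support, ∃ c ∈ C', φ c = monomial n (decompose 𝒜 a i : A) := by
    intro i hi
    refine key a n i ?_
    by_contra hlt
    exact DFinsupp.mem_support_iff.1 hi (Subtype.ext (decompose_tail 𝒜 (not_le.1 hlt) ha))
  choose! c hc hc' using hb'
  have : b = ∑ i ∈ (decompose 𝒜 a).support, c i := hφ (by
    rw [e, map_sum]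
    exact (Finset.sum_congr rfl fun i hi => hc' i hi).symm)
  rw [this]
  exact sum_mem hc

include hdeg hφ in
theorem isNoetherian_iff : IsNoetherianRing B ↔ IsNoetherianRing A := by
  have hbij : Function.Bijective ((ψ φ).comp (algebraMap (ℬ 0) B)) := by
    refine ⟨fun x y h => Subtype.ext (hφ ?_), fun a => ?_⟩
    · rw [(φ_eq_monomial_ψ 𝒜 ℬ φ hdeg x.2).1, (φ_eq_monomial_ψ 𝒜 ℬ φ hdeg y.2).1]
      exact congrArg _ h
    · obtain ⟨b, hb, e⟩ := exists_preimage 𝒜 ℬ φ hdeg (n := 0) (a := a) (by rw [tail_zero]; trivial)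
      exact ⟨⟨b, hb⟩, by
        show (φ b).eval 1 = a
        rw [e, monomial_zero_left, eval_C]⟩
  constructor
  · intro h
    exact isNoetherianRing_of_surjective (ℬ 0) A _ hbij.2
  · intro h
    have : IsNoetherianRing (ℬ 0) :=
      isNoetherianRing_of_ringEquiv A (RingEquiv.ofBijective _ hbij).symm
    have : Algebra.FiniteType (𝒜 0) A :=
      Groth.Agent.GrBasics.finiteType_of_irrelevant_fg 𝒜 (IsNoetherian.noetherian _)
    have := finiteType_natural 𝒜 ℬ φ hφ hdeg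
    exact Algebra.FiniteType.isNoetherianRing (ℬ 0) B

end GrNatural
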